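import Groth.Prelude.Def_Coh
import Mathlib.AlgebraicGeometry.FunctionField
import Mathlib.AlgebraicGeometry.Stalk

/-!
# The sheaf of rational functions as a pushforward from the generic point
-/

set_option autoImplicit false
universe u

open CategoryTheory AlgebraicGeometry TopologicalSpace Opposite

noncomputable section

namespace RatFunLib

variable (X : Scheme.{u}) [IsIntegral X]

/-- The function field. -/
abbrev K : CommRingCat.{u} := X.presheaf.stalk (genericPoint X)

/-- The sheaf of rational functions. -/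
abbrev ratMod : X.Modules :=
  (Scheme.Modules.pushforward (X.fromSpecStalk (genericPoint X))).obj (Coh.structureModule (Spec (K X)))

theorem apply_eq (y : Spec (K X)) : X.fromSpecStalk (genericPoint X) y = genericPoint X := by
  have h : X.fromSpecStalk (genericPoint X) y ∈ Set.range (X.fromSpecStalk (genericPoint X)) := ⟨y, rfl⟩
  rw [Scheme.range_fromSpecStalk] at h
  exact (h.antisymm (genericPoint_specializes _)).eq

variable {X}

theorem le_preimage {U : X.Opens} (h : genericPoint X ∈ U) :
    (⊤ : (Spec (K X)).Opens) ≤ X.fromSpecStalk (genericPoint X) ⁻¹ᵁ U := fun y _ => by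
  show X.fromSpecStalk (genericPoint X) y ∈ U
  rw [apply_eq]
  exact h

theorem subsingleton_sec {U : X.Opens} (h : genericPoint X ∉ U) : Subsingleton Γ(ratMod X, U) := by
  refine ⟨fun a b => TopCat.Sheaf.eq_of_locally_eq' (Spec (K X)).sheaf (fun i : PEmpty.{u + 1} => i.elim)
    (X.fromSpecStalk (genericPoint X) ⁻¹ᵁ U) (fun i => i.elim) (fun y hy => absurd ?_ h) a b (fun i => i.elim)⟩
  have h1 : X.fromSpecStalk (genericPoint X) y ∈ U := hy
  rwa [apply_eq] at h1

/-- The value of a rational function. -/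
def ev {U : X.Opens} (h : genericPoint X ∈ U) : Γ(ratMod X, U) →+ K X where
  toFun t := (Scheme.ΓSpecIso (K X)).hom ((Spec (K X)).presheaf.map (homOfLE (le_preimage h)).op t)
  map_zero' := ((Spec (K X)).presheaf.map (homOfLE (le_preimage h)).op ≫ (Scheme.ΓSpecIso (K X)).hom).hom.map_zero
  map_add' a b := ((Spec (K X)).presheaf.map (homOfLE (le_preimage h)).op ≫ (Scheme.ΓSpecIso (K X)).hom).hom.map_add a b

/-- The rational function with given value. -/
def mk (U : X.Opens) : K X →+ Γ(ratMod X, U) where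
  toFun q := (Spec (K X)).presheaf.map (homOfLE (le_top : X.fromSpecStalk (genericPoint X) ⁻¹ᵁ U ≤ ⊤)).op
    ((Scheme.ΓSpecIso (K X)).inv q)
  map_zero' := ((Scheme.ΓSpecIso (K X)).inv ≫ (Spec (K X)).presheaf.map
    (homOfLE (le_top : X.fromSpecStalk (genericPoint X) ⁻¹ᵁ U ≤ ⊤)).op).hom.map_zero
  map_add' a b := ((Scheme.ΓSpecIso (K X)).inv ≫ (Spec (K X)).presheaf.map
    (homOfLE (le_top : X.fromSpecStalk (genericPoint X) ⁻¹ᵁ U ≤ ⊤)).op).hom.map_add a b

theorem map_self {Y : Scheme.{u}} {A : Y.Opens} (h : A ≤ A) (t : Γ(Y, A)) : Y.presheaf.map (homOfLE h).op t = t := by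
  rw [show homOfLE h = 𝟙 A from rfl, op_id, CategoryTheory.Functor.map_id]
  rfl

theorem map_map {Y : Scheme.{u}} {A B C : Y.Opens} (h : B ≤ A) (h' : C ≤ B) (t : Γ(Y, A)) :
    Y.presheaf.map (homOfLE h').op (Y.presheaf.map (homOfLE h).op t) = Y.presheaf.map (homOfLE (h'.trans h)).op t :=
  (ConcreteCategory.congr_hom (Y.presheaf.map_comp (homOfLE h).op (homOfLE h').op) t).symm

theorem ev_mk {U : X.Opens} (h : genericPoint X ∈ U) (q : K X) : ev h (mk U q) = q := by
  change (Scheme.ΓSpecIso (K X)).hom ((Spec (K X)).presheaf.map (homOfLE (le_preimage h)).op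
    ((Spec (K X)).presheaf.map (homOfLE le_top).op ((Scheme.ΓSpecIso (K X)).inv q))) = q
  rw [map_map, map_self, Iso.inv_hom_id_apply]

theorem mk_ev {U : X.Opens} (h : genericPoint X ∈ U) (t : Γ(ratMod X, U)) : mk U (ev h t) = t := by
  change (Spec (K X)).presheaf.map (homOfLE le_top).op ((Scheme.ΓSpecIso (K X)).inv
    ((Scheme.ΓSpecIso (K X)).hom ((Spec (K X)).presheaf.map (homOfLE (le_preimage h)).op t))) = t
  rw [Iso.hom_inv_id_apply, map_map, map_self]

theorem ev_injective {U : X.Opens} (h : genericPoint X ∈ U) : Function.Injective (ev h) :=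
  Function.LeftInverse.injective (mk_ev h)

theorem ev_smul {U : X.Opens} (h : genericPoint X ∈ U) (r : Γ(X, U)) (t : Γ(ratMod X, U)) :
    ev h (r • t) = X.presheaf.germ U (genericPoint X) h r * ev h t := by
  change ((Spec (K X)).presheaf.map (homOfLE (le_preimage h)).op ≫ (Scheme.ΓSpecIso (K X)).hom).hom
    ((X.fromSpecStalk (genericPoint X)).app U r * (show Γ(Spec (K X), _) from t)) = _
  rw [map_mul]
  refine congrArg (· * _) ?_
  rw [Scheme.fromSpecStalk_app h]
  change (Scheme.ΓSpecIso (K X)).hom ((Spec (K X)).presheaf.map (homOfLE (le_preimage h)).op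
    ((Spec (K X)).presheaf.map (homOfLE le_top).op ((Scheme.ΓSpecIso (K X)).inv (X.presheaf.germ U _ h r)))) = _
  rw [map_map, map_self, Iso.inv_hom_id_apply]

theorem ev_res {U V : X.Opens} (hV : genericPoint X ∈ V) (hVU : V ≤ U) (t : Γ(ratMod X, U)) :
    ev hV ((ratMod X).presheaf.map (homOfLE hVU).op t) = ev (hVU hV) t := by
  change (Scheme.ΓSpecIso (K X)).hom ((Spec (K X)).presheaf.map (homOfLE (le_preimage hV)).op
    ((Spec (K X)).presheaf.map (homOfLE ((Opens.map (X.fromSpecStalk (genericPoint X)).base).map (homOfLE hVU)).le).op t)) = _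
  rw [map_map]
  rfl

theorem res_mk {U V : X.Opens} (hVU : V ≤ U) (q : K X) :
    (ratMod X).presheaf.map (homOfLE hVU).op (mk U q) = mk V q := by
  change (Spec (K X)).presheaf.map (homOfLE ((Opens.map (X.fromSpecStalk (genericPoint X)).base).map (homOfLE hVU)).le).op
    ((Spec (K X)).presheaf.map (homOfLE le_top).op ((Scheme.ΓSpecIso (K X)).inv q)) = _
  rw [map_map]
  rfl

theorem nonempty_of_mem {U : X.Opens} {x : X} (hx : x ∈ U) : genericPoint X ∈ U :=
  (genericPoint_specializes x).mem_open U.2 hx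

end RatFunLib

end
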